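import Cfsg.Agent.Lib.SuzSub.Check
import Cfsg.Agent.Lib.SuzPres.Main
import Cfsg.Agent.Lib.Chev.GTwoFour.Cover
import Cfsg.Agent.Lib.Chev.OrderData
import Cfsg.Agent.S1055

/-!
The subgroup of `Suz` generated by the first six generators is `G₂(4)`.
-/

set_option autoImplicit false

namespace CfsgLib.SuzSub

open CfsgLib.CosetEnum CfsgLib.SuzPres Cfsg.Spor

/-- the letters as free generators -/
def free6 (i : ℕ) : FreeGroup (Fin 6) := if h : i < 6 then FreeGroup.of ⟨i, h⟩ else 1

/-- the relators -/
def relSet : Set (FreeGroup (Fin 6)) := {x | ∃ r ∈ rels6, prodW free6 r = x}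

/-- The presented group on six involutions. -/
abbrev P6 : Type := PresentedGroup relSet

/-- its letters -/
def gen6 (i : ℕ) : P6 := PresentedGroup.mk relSet (free6 i)

theorem gen6_rel {r : List ℕ} (hr : r ∈ rels6) : prodW gen6 r = 1 := by
  unfold gen6
  rw [← map_prodW]
  exact PresentedGroup.one_of_mem ⟨r, hr, rfl⟩

theorem sq_mem : ∀ i < 6, [i, i] ∈ rels6 := by decide +kernel

theorem gen6_sq (i : ℕ) : gen6 i * gen6 i = 1 := by
  by_cases h : i < 6
  · simpa using gen6_rel (sq_mem i h)
  · simp [gen6, free6, h]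

theorem genSub_top : genSub gen6 6 = ⊤ := by
  rw [eq_top_iff, ← PresentedGroup.closure_range_of relSet, genSub, Subgroup.closure_le]
  rintro _ ⟨i, rfl⟩
  exact Subgroup.subset_closure ⟨i, i.2, by simp [gen6, free6, i.2, PresentedGroup.of]⟩

theorem blockF6 : blockOK certF rels6 2 2 = true := by decide +kernel
theorem blockE6 : blockOK certE rels6 0 4 = true := by decide +kernel
theorem blockC6 : blockOK certC rels6 0 5 = true := by decide +kernel
theorem blockB6 : blockOK certB rels6 0 6 = true := by decide +kernel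

theorem card_P6 : Finite P6 ∧ Nat.card P6 ≤ 251596800 := by
  have hr : ∀ r ∈ rels6, prodW gen6 r = 1 := fun r => gen6_rel
  have hF := block_card_le gen6_sq hr certF_complete blockF6 (subs_closure_bot rfl)
  have hE := block_step gen6_sq hr certE_complete blockE6 (d := 2) (k := 2) (by decide +kernel)
    le_rfl hF
  have hC := block_step gen6_sq hr certC_complete blockC6 (d := 0) (k := 4) (by decide +kernel)
    (by norm_num) hE
  have hB := block_step gen6_sq hr certB_complete blockB6 (d := 0) (k := 5) (by decide +kernel)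
    (by norm_num) hC
  rw [genSub_blockGen_zero, genSub_top] at hB
  obtain ⟨h1, h2⟩ := hB
  haveI := h1
  exact ⟨Finite.of_equiv _ Subgroup.topEquiv.toEquiv,
    by rw [← Nat.card_congr Subgroup.topEquiv.toEquiv]; exact h2⟩

theorem card_subA : Nat.card subA = 251596800 := by
  have h := subA.card_mul_index
  rw [setupA.index_eq, card_faithful.1] at h
  exact Nat.eq_of_mul_eq_mul_right (show 0 < certA.N from certA_complete.N_pos)
    (h.trans (by decide +kernel))

theorem exists_to_suz : ∃ π : P6 →* Suz, ∀ i < 6, π (gen6 i) = gen i := by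
  have key : ∀ r ∈ relSet, FreeGroup.lift (fun i : Fin 6 => gen (i : ℕ)) r = 1 := by
    rintro r ⟨w, hw, rfl⟩
    rw [map_prodW]
    have hmem : w ∈ certA.rels ∧ w.all (fun g => Nat.blt g 6) = true := List.mem_filter.mp hw
    have hl := hmem.2
    simp only [List.all_eq_true, Nat.blt_eq] at hl
    rw [← modelA.rel w hmem.1]
    exact prodW_congr fun g hg => by simp [free6, hl g hg]
  refine ⟨PresentedGroup.toGroup key, fun i hi => ?_⟩
  have e : gen6 i = PresentedGroup.of (⟨i, hi⟩ : Fin 6) := by
    simp [gen6, free6, hi, PresentedGroup.of]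
  rw [e, PresentedGroup.toGroup.of]

theorem exists_iso_P6 : Nonempty (P6 ≃* subA) := by
  obtain ⟨π, hπ⟩ := exists_to_suz
  haveI := card_P6.1
  have hr : π.range = subA := by
    rw [MonoidHom.range_eq_map, ← genSub_top, genSub, MonoidHom.map_closure, subA_eq, genSub]
    congr 1
    ext y
    constructor
    · rintro ⟨_, ⟨i, hi, rfl⟩, rfl⟩
      exact ⟨i, hi, (hπ i hi).symm⟩
    · rintro ⟨i, hi, rfl⟩
      exact ⟨_, ⟨i, hi, rfl⟩, hπ i hi⟩
  have hcard : Nat.card P6 ≤ Nat.card π.range := by
    rw [hr, card_subA]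
    exact card_P6.2
  haveI : Finite π.range := Finite.of_surjective _ π.rangeRestrict_surjective
  haveI := Fintype.ofFinite P6
  haveI := Fintype.ofFinite π.range
  have hb : Function.Bijective π.rangeRestrict := by
    rw [Fintype.bijective_iff_surjective_and_card]
    refine ⟨π.rangeRestrict_surjective, le_antisymm ?_
      (Fintype.card_le_of_surjective _ π.rangeRestrict_surjective)⟩
    rwa [← Nat.card_eq_fintype_card, ← Nat.card_eq_fintype_card]
  exact ⟨(MulEquiv.ofBijective _ hb).trans (MulEquiv.subgroupCongr hr)⟩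

/-! ### The permutations of the 2016 points -/

theorem invol_spec {g i : ℕ} (hg : g < 6) (hi : i < 2016) :
    sStep g i < 2016 ∧ sStep g (sStep g i) = i := by
  have h := allUp_spec involAll i (Nat.zero_le _) (by norm_num; omega)
  simp only [involOK, strict_eq, show ltB i 2016 = true from ltB_iff.mpr hi, pick_true,
    List.all_eq_true, List.mem_range, Bool.and_eq_true, Nat.blt_eq] at h
  exact ⟨(h g hg).1, Nat.eq_of_beq_eq_true (h g hg).2⟩

/-- the six permutations -/
noncomputable def sPerm (g : ℕ) : Equiv.Perm (Fin 2016) :=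
  if hg : g < 6 then
    Function.Involutive.toPerm (fun i => ⟨sStep g i, (invol_spec hg i.2).1⟩)
      fun i => Fin.ext (invol_spec hg i.2).2
  else 1

theorem sPerm_prod : ∀ {w : List ℕ}, (∀ g ∈ w, g < 6) → ∀ i : Fin 2016,
    (prodW sPerm w i : ℕ) = sRun w i
  | [], _, i => by simp [sRun]
  | g :: w, hw, i => by
    rw [List.forall_mem_cons] at hw
    rw [prodW_cons, Equiv.Perm.mul_apply, sPerm, dif_pos hw.1]
    show sStep g (prodW sPerm w i : ℕ) = _
    rw [sPerm_prod hw.2]
    simp [sRun, strict_eq]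

theorem rels6_lt {r : List ℕ} (hr : r ∈ rels6) : ∀ g ∈ r, g < 6 := by
  have h := wordsIdx
  simp only [Bool.and_eq_true, List.all_eq_true, Nat.blt_eq] at h
  exact h.2 r hr

theorem exists_to_perm : ∃ θ : P6 →* Equiv.Perm (Fin 2016), ∀ i < 6, θ (gen6 i) = sPerm i := by
  have key : ∀ r ∈ relSet, FreeGroup.lift (fun i : Fin 6 => sPerm (i : ℕ)) r = 1 := by
    rintro r ⟨w, hw, rfl⟩
    rw [map_prodW, prodW_congr (gen' := sPerm) fun g hg => by
      simp [free6, rels6_lt hw g hg]]
    refine Equiv.ext fun i => Fin.ext ?_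
    rw [sPerm_prod (rels6_lt hw), Equiv.Perm.one_apply]
    have h := allUp_spec relAll i (Nat.zero_le _) (by have := i.2; norm_num; omega)
    simp only [relOK, strict_eq, show ltB (i : ℕ) 2016 = true from ltB_iff.mpr i.2, pick_true,
      List.all_eq_true] at h
    exact Nat.eq_of_beq_eq_true (h w hw)
  refine ⟨PresentedGroup.toGroup key, fun i hi => ?_⟩
  have e : gen6 i = PresentedGroup.of (⟨i, hi⟩ : Fin 6) := by
    simp [gen6, free6, hi, PresentedGroup.of]
  rw [e, PresentedGroup.toGroup.of]

/-! ### The monomial permutations on the points -/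

open CfsgLib.GTwoFour in
theorem mono_fibre (m : Mono) (s : St) :
    (((m : Equiv.Perm St) s : St) : ℕ) / 4 =
      (((m : Equiv.Perm St) ⟨4 * ((s : ℕ) / 4), by have := s.2; omega⟩ : St) : ℕ) / 4 := by
  set b : St := ⟨4 * ((s : ℕ) / 4), by have := s.2; omega⟩
  have e : s = (shiftPerm ^ ((s : ℕ) % 4)) b := Fin.ext (by
    rw [shiftPerm_pow]; simp only [cShift, b]; omega)
  have hc : Commute (m : Equiv.Perm St) (shiftPerm ^ ((s : ℕ) % 4)) :=
    Commute.pow_right (Subgroup.mem_centralizer_singleton_iff.1 m.2) _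
  conv_lhs => rw [e, ← Equiv.Perm.mul_apply, hc.eq, Equiv.Perm.mul_apply, shiftPerm_pow]
  simp only [cShift]
  omega

open CfsgLib.GTwoFour in
/-- the map of the points -/
noncomputable def onPts (m : Mono) (i : Fin 2016) : Fin 2016 :=
  ⟨(((m : Equiv.Perm St) ⟨4 * (i : ℕ), by have := i.2; omega⟩ : St) : ℕ) / 4, by
    have := ((m : Equiv.Perm St) ⟨4 * (i : ℕ), by have := i.2; omega⟩).2; omega⟩

open CfsgLib.GTwoFour in
theorem onPts_mul (a b : Mono) (i : Fin 2016) : onPts (a * b) i = onPts a (onPts b i) := by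
  refine Fin.ext ?_
  simp only [onPts, Subgroup.coe_mul, Equiv.Perm.mul_apply]
  exact mono_fibre a _

open CfsgLib.GTwoFour in
theorem onPts_one (i : Fin 2016) : onPts 1 i = i := by
  refine Fin.ext ?_
  simp [onPts]

open CfsgLib.GTwoFour in
theorem exists_pointHom : ∃ π : Mono ⧸ shiftGroup →* Equiv.Perm (Fin 2016),
    ∀ (g : ℕ) (t : Fin 4), GenOK g t → ∀ i : Fin 2016,
      (π (quoGen g t) i : ℕ) = cGen g t (4 * (i : ℕ)) / 4 := by
  let f : Mono →* Equiv.Perm (Fin 2016) :=
    { toFun := fun m =>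
        { toFun := onPts m
          invFun := onPts m⁻¹
          left_inv := fun i => by rw [← onPts_mul, inv_mul_cancel, onPts_one]
          right_inv := fun i => by rw [← onPts_mul, mul_inv_cancel, onPts_one] }
      map_one' := Equiv.ext onPts_one
      map_mul' := fun a b => Equiv.ext (onPts_mul a b) }
  have hker : shiftGroup ≤ f.ker := by
    rw [shiftGroup, Subgroup.zpowers_le, MonoidHom.mem_ker]
    refine Equiv.ext fun i => Fin.ext ?_
    show (((shiftPerm ^ 2) _ : St) : ℕ) / 4 = (i : ℕ)
    rw [shiftPerm_pow]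
    simp only [cShift]
    omega
  refine ⟨QuotientGroup.lift shiftGroup f hker, fun g t hg i => ?_⟩
  rw [quoGen, QuotientGroup.lift_mk]
  show (((monoGen g t : Mono) : Equiv.Perm St) _ : St).val / 4 = _
  rw [monoGen_val hg]

open Cfsg.Lie CfsgLib.Chev CfsgLib.GTwoFour in
theorem iso_G2four {K : Type} [Field K] [Fintype K] (hF : Fintype.card K = 4) :
    Nonempty (subA ≃* ↥(Cfsg.Lie.chevG2.group K)) := by
  obtain ⟨ω, hω, -⟩ := exists_omega hF
  set w : K := (ω : K)
  obtain ⟨f, hf⟩ := exists_quoHom hF (w := w) ω.ne_zero hω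
  obtain ⟨pr, hpr⟩ := exists_pointHom
  obtain ⟨θ, hθ⟩ := exists_to_perm
  have hn : tabG2.n = 12 := tab_facts.2.1
  set st := certG2.stTheta (K := K) (R := chevG2.steinbergRelsAB K) le_rfl
    (steinbergRelsAB_subset chevG2 K)
  have hsti : Function.Injective st := st.ker_eq_bot_iff.1 ker_stTheta_G2
  let eθ : chevG2.SteinbergCover K ≃* ↥(chevG2.group K) :=
    MulEquiv.ofBijective st ⟨hsti, certG2.stTheta_surjective _ _⟩
  set ψ' : chevG2.SteinbergCover K →* Equiv.Perm (Fin 2016) := pr.comp f with hψ'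
  -- the root elements are words in the six permutations
  have hroot : ∀ r < 12, ∀ a : Fin 4, ψ' (PresentedGroup.mk _ (chevG2.stX r (dec w a))) ∈ θ.range := by
    intro r hr a
    rw [hψ', MonoidHom.comp_apply, hf r a hr]
    by_cases ha : a = 0
    · subst ha
      rw [quoGen_zero hr, map_one]
      exact one_mem _
    have hlen : rootWords.length = 36 := by decide +kernel
    have hidx := wordsIdx
    simp only [Bool.and_eq_true, List.all_eq_true, Nat.blt_eq] at hidx
    have hav : 1 ≤ a.val ∧ a.val < 4 := ⟨Nat.pos_of_ne_zero fun e => ha (Fin.ext e), a.2⟩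
    have hmem : rootWords.getD (3 * r + a.val - 1) [] ∈ rootWords := by
      rw [List.getD_eq_getElem _ _ (by omega)]
      exact List.getElem_mem _
    refine ⟨prodW gen6 (rootWords.getD (3 * r + a.val - 1) []), ?_⟩
    rw [map_prodW, prodW_congr (gen' := sPerm) fun g hg => hθ g (hidx.1 _ hmem g hg)]
    refine Equiv.ext fun i => Fin.ext ?_
    rw [sPerm_prod (hidx.1 _ hmem), hpr r a (Or.inl hr)]
    have h := allUp_spec (rowsAll hr) i (Nat.zero_le _) (by have := i.2; norm_num; omega)
    simp only [rowsOK, rootOK, strict_eq, show ltB (i : ℕ) 2016 = true from ltB_iff.mpr i.2,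
      pick_true, Bool.and_eq_true, nthWord_eq] at h
    simp only [cGen, cAct, show Nat.beq a.val 0 = false from by
      rw [Bool.eq_false_iff, ne_eq, Nat.beq_eq]; omega, cond_false]
    obtain ⟨a, ha4⟩ := a
    simp only at hav ⊢
    obtain ⟨⟨h1, h2⟩, h3⟩ := h
    interval_cases a
    · omega
    · exact Nat.eq_of_beq_eq_true h1
    · exact Nat.eq_of_beq_eq_true h2
    · exact Nat.eq_of_beq_eq_true h3
  have hdec := dec_bijective hF (w := w) ω.ne_zero hω
  have hle : ψ'.range ≤ θ.range := by
    rw [MonoidHom.range_eq_map, ← PresentedGroup.closure_range_of, MonoidHom.map_closure,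
      Subgroup.closure_le]
    rintro _ ⟨_, ⟨⟨r, x⟩, rfl⟩, rfl⟩
    obtain ⟨a, rfl⟩ := hdec.2 x
    have hr : (r : ℕ) < 12 := lt_of_lt_of_eq r.2 (certG2.nroots_eq.trans hn)
    have := hroot r hr a
    rwa [ChevalleyDatum.stX, dif_pos r.2] at this
  set ψ : ↥(chevG2.group K) →* Equiv.Perm (Fin 2016) := ψ'.comp eθ.symm.toMonoidHom with hψ
  haveI : IsSimpleGroup ↥(chevG2.group K) := (Cfsg.Agent.S1055.result (by
    exact ⟨w, ω.ne_zero, hω⟩)).1
  have hinj : Function.Injective ψ := by
    rcases ψ.normal_ker.eq_bot_or_eq_top with h | h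
    · exact (MonoidHom.ker_eq_bot_iff _).mp h
    · exfalso
      have hm := rootMoves
      simp only [List.any_eq_true, List.mem_range, Bool.not_eq_true', nthWord_eq] at hm
      obtain ⟨i, hi, hne⟩ := hm
      set z := PresentedGroup.mk (chevG2.steinbergRelsAB K) (chevG2.stX 0 (dec w 1))
      have h1 : ψ (eθ z) = 1 := by
        rw [← MonoidHom.mem_ker, h]; exact Subgroup.mem_top _
      rw [hψ, MonoidHom.comp_apply, MulEquiv.coe_toMonoidHom, eθ.symm_apply_apply, hψ',
        MonoidHom.comp_apply, hf 0 1 (by norm_num)] at h1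
      have h2 := hpr 0 1 (Or.inl (by norm_num)) ⟨i, hi⟩
      rw [h1, Equiv.Perm.one_apply] at h2
      have h3 := allUp_spec (rowsAll (r := 0) (by norm_num)) i (Nat.zero_le _) (by norm_num; omega)
      simp only [rowsOK, rootOK, strict_eq, show ltB i 2016 = true from ltB_iff.mpr hi, pick_true,
        Bool.and_eq_true, nthWord_eq] at h3
      have h4 := Nat.eq_of_beq_eq_true h3.1.1
      simp only [cGen, cAct] at h2
      rw [show 3 * 0 + 1 - 1 = 0 from rfl] at h4
      have h5 : sRun (rootWords.getD 0 []) i = i := h4.trans h2.symm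
      rw [h5, Nat.beq_refl] at hne
      cases hne
  have hrange : ψ.range ≤ θ.range := by
    rintro _ ⟨g, rfl⟩
    exact hle ⟨eθ.symm g, rfl⟩
  haveI := card_P6.1
  haveI : Finite θ.range := Finite.of_surjective _ θ.rangeRestrict_surjective
  have hN : Nat.card ψ.range = 251596800 := by
    rw [← Nat.card_congr (MonoidHom.ofInjective hinj).toEquiv, card_groupG2, hF]
    norm_num
  have h1 : Nat.card ψ.range ≤ Nat.card θ.range := Subgroup.card_le_of_le hrange
  have h2 : Nat.card θ.range ≤ Nat.card P6 :=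
    Nat.card_le_card_of_surjective _ θ.rangeRestrict_surjective
  have h3 := card_P6.2
  have heq : ψ.range = θ.range := Subgroup.eq_of_le_of_card_ge hrange (by omega)
  haveI := Fintype.ofFinite P6
  haveI := Fintype.ofFinite θ.range
  have hb : Function.Bijective θ.rangeRestrict := by
    rw [Fintype.bijective_iff_surjective_and_card]
    refine ⟨θ.rangeRestrict_surjective, ?_⟩
    rw [← Nat.card_eq_fintype_card, ← Nat.card_eq_fintype_card]
    omega
  obtain ⟨e⟩ := exists_iso_P6
  exact ⟨e.symm.trans ((MulEquiv.ofBijective _ hb).trans ((MulEquiv.subgroupCongr heq.symm).trans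
    (MonoidHom.ofInjective hinj).symm))⟩

end CfsgLib.SuzSub
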