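import Cfsg.Agent.Lib.SuzSub.Defs

/-!
Kernel checks of the permutations.
-/

set_option autoImplicit false
set_option Elab.async false
set_option maxRecDepth 100000

namespace CfsgLib.SuzSub

open CfsgLib.CosetEnum

theorem involAll : allUp involOK 11 0 = true := by decide +kernel

theorem relAll : allUp relOK 11 0 = true := by decide +kernel

theorem wordsIdx : ((rootWords.all fun w => w.all fun g => Nat.blt g 6) &&
    (rels6.all fun r => r.all fun g => Nat.blt g 6)) = true := by decide +kernel

theorem rootMoves : ((List.range 2016).any fun i =>
    !Nat.beq (sRun (nthWord rootWords 0) i) i) = true := by decide +kernel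

theorem rows0 : allUp (rowsOK 0) 11 0 = true := by decide +kernel

theorem rows1 : allUp (rowsOK 1) 11 0 = true := by decide +kernel

theorem rows2 : allUp (rowsOK 2) 11 0 = true := by decide +kernel

theorem rows3 : allUp (rowsOK 3) 11 0 = true := by decide +kernel

theorem rows4 : allUp (rowsOK 4) 11 0 = true := by decide +kernel

theorem rows5 : allUp (rowsOK 5) 11 0 = true := by decide +kernel

theorem rows6 : allUp (rowsOK 6) 11 0 = true := by decide +kernel

theorem rows7 : allUp (rowsOK 7) 11 0 = true := by decide +kernel

theorem rows8 : allUp (rowsOK 8) 11 0 = true := by decide +kernel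

theorem rows9 : allUp (rowsOK 9) 11 0 = true := by decide +kernel

theorem rows10 : allUp (rowsOK 10) 11 0 = true := by decide +kernel

theorem rows11 : allUp (rowsOK 11) 11 0 = true := by decide +kernel

theorem rowsAll {r : ℕ} (hr : r < 12) : allUp (rowsOK r) 11 0 = true := by
  interval_cases r
  exacts [rows0, rows1, rows2, rows3, rows4, rows5, rows6, rows7, rows8, rows9, rows10, rows11]

end CfsgLib.SuzSub
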