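import Cfsg.Agent.Lib.SuzSub.Data
import Cfsg.Agent.Lib.Chev.GTwoFour.CoverDefs
import Cfsg.Agent.Lib.SuzPres.DataA

/-!
Checks of the six permutations of 2016 points: involutions, relators, root elements as words.
-/

set_option autoImplicit false

namespace CfsgLib.SuzSub

open CfsgLib.CosetEnum

/-- the relators free of the seventh generator -/
def rels6 : List (List ℕ) := CfsgLib.SuzPres.certA.rels.filter fun r => r.all fun g => Nat.blt g 6

/-- a generator at a point -/
noncomputable def sStep (g i : ℕ) : ℕ :=
  Nat.land (Nat.shiftRight (nth genRows g 0) (Nat.mul (nat_lit 16) i)) (nat_lit 65535)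

/-- a word at a point, last letter first -/
noncomputable def sRun (w : List ℕ) (i : ℕ) : ℕ :=
  List.rec i (fun g _ ih => strict ih fun x => sStep g x) w

/-- the generators are involutions of the points -/
noncomputable def involOK (i : ℕ) : Bool :=
  strict i fun i => pick (ltB i 2016)
    ((List.range 6).all fun g => Nat.blt (sStep g i) 2016 && Nat.beq (sStep g (sStep g i)) i) true

/-- the relators fix a point -/
noncomputable def relOK (i : ℕ) : Bool :=
  strict i fun i => pick (ltB i 2016) (rels6.all fun r => Nat.beq (sRun r i) i) true

/-- the word for `x_r(t)` agrees with the table at a point -/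
noncomputable def rootOK (r t i : ℕ) : Bool :=
  strict i fun i => pick (ltB i 2016)
    (Nat.beq (sRun (nthWord rootWords (3 * r + t - 1)) i)
      (CfsgLib.GTwoFour.cStep (CfsgLib.GTwoFour.coverRow r t) (4 * i) / 4)) true

/-- the words for a root at a point -/
noncomputable def rowsOK (r i : ℕ) : Bool := rootOK r 1 i && rootOK r 2 i && rootOK r 3 i

end CfsgLib.SuzSub
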